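import Mathlib
import Cfsg.Agent.H905.E6T.Seven

/-!
# S5927, characteristic 2, `A₇`: the main lemma (helper905)

`seven_main` : `A₇` acts on `V`, `V'` without fixed vectors, `v 0`, `v 1` two independent equivariant families in `V`;
then `cr (v k i) (v k j) = 0`. `seven_kill` : no totally singular 6-spaces: contradiction.
-/

set_option autoImplicit false
set_option linter.unusedSectionVars false
set_option linter.unusedSimpArgs false
set_option linter.unusedTactic false

namespace Cfsg.Agent.H905.E6T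

open Cfsg Cfsg.Lie Module Equiv
open Cfsg.Agent.ChevalleyStructure.E6Min.Tables
open Cfsg.Agent.H952.F4 (ev es sh cr tf tr1 u0)
open Cfsg.Agent.H952.F4.Jord Cfsg.Agent.H163.E6

universe u

variable {F : Type u} [Field F]

section

variable {n : ℕ} {σ σ' : Representation F ↥(alternatingGroup (Fin n)) (I27 → F)}

/-- the products of the members of a family -/
theorem fam2_cr (h2 : (2 : F) = 0) (hP : PD σ σ') {v : Fin n → I27 → F} (hv : Fam σ v) :
    Fam2 σ' (fun i j => cr (v i) (v j)) :=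
  ⟨fun g i j => by rw [← hP.hcr, hv, hv], fun i j => cr_comm _ _, fun i => cr_self2 h2 _⟩

theorem star_cr {v : Fin n → I27 → F} (hs : ∑ i, v i = 0) (x : I27 → F) : ∑ j, cr x (v j) = 0 := by
  have h1 : ∀ s : Finset (Fin n), ∑ j ∈ s, cr x (v j) = cr x (∑ j ∈ s, v j) := by
    intro s
    exact (map_sum (crB F x) v s).symm
  rw [h1, hs, cr_zero_right]

theorem star_tf {v : Fin n → I27 → F} (hs : ∑ i, v i = 0) (x : I27 → F) : ∑ j, tf x (v j) = 0 := by
  have h1 : ∀ s : Finset (Fin n), ∑ j ∈ s, tf x (v j) = tf x (∑ j ∈ s, v j) := by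
    intro s
    exact (map_sum (tfB F x) v s).symm
  rw [h1, hs, tf_zero_right]

theorem star_tf' {w : Fin n → I27 → F} (hs : ∑ i, w i = 0) (x : I27 → F) : ∑ j, tf (w j) x = 0 := by
  rw [← star_tf hs x]
  exact Finset.sum_congr rfl fun j _ => tf_comm _ _

/-- the first member of a family determines it -/
theorem fam_eq_zero (hn : 3 ≤ n) {v : Fin n → I27 → F} (hv : Fam σ v) {i : Fin n} (h : v i = 0) (j : Fin n) :
    v j = 0 := by
  obtain ⟨g, hg⟩ := move1 hn i j
  rw [← hg, ← hv, h, map_zero]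

end

section

variable {σ σ' : Representation F ↥(alternatingGroup (Fin 7)) (I27 → F)}

theorem all7 {w : Fin 7 → Fin 7 → I27 → F}
    (h : ∑ p ∈ Finset.univ.filter (fun p : Fin 7 × Fin 7 => p.1 < p.2), w p.1 p.2 = 0) :
    w 0 1 + w 0 2 + w 0 3 + w 0 4 + w 0 5 + w 0 6 + w 1 2 + w 1 3 + w 1 4 + w 1 5 + w 1 6 + w 2 3 + w 2 4 + w 2 5 +
      w 2 6 + w 3 4 + w 3 5 + w 3 6 + w 4 5 + w 4 6 + w 5 6 = 0 := by
  rw [← h]
  have h1 : (Finset.univ.filter fun p : Fin 7 × Fin 7 => p.1 < p.2) =
      {(0, 1), (0, 2), (0, 3), (0, 4), (0, 5), (0, 6), (1, 2), (1, 3), (1, 4), (1, 5), (1, 6), (2, 3), (2, 4), (2, 5),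
        (2, 6), (3, 4), (3, 5), (3, 6), (4, 5), (4, 6), (5, 6)} := by decide +kernel
  rw [h1]
  repeat rw [Finset.sum_insert (by decide +kernel)]
  rw [Finset.sum_singleton]
  simp only [add_assoc]

/-- if a 4-cycle vanishes everything vanishes -/
theorem w_zero7 (h2 : (2 : F) = 0) (hinv : σ.invariants = ⊥) {w : Fin 7 → Fin 7 → I27 → F} (hw : Fam2 σ w)
    (hstar : ∀ i, ∑ j, w i j = 0) (hZ : Z w 0 1 2 3 = 0) (i j : Fin 7) : w i j = 0 := by
  have hz : ∀ y : I27 → F, y + y = 0 := fun y => add_self2 h2 y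
  have hZ' : ∀ {a b c d : Fin 7}, a ≠ b → a ≠ c → a ≠ d → b ≠ c → b ≠ d → c ≠ d → Z w a b c d = 0 :=
    fun h1 h2 h3 h4 h5 h6 => Z_zero (by norm_num) hw hZ (by decide) (by decide) (by decide) (by decide) (by decide)
      (by decide) h1 h2 h3 h4 h5 h6
  have hcd : ∀ {a b c d : Fin 7}, a ≠ b → a ≠ c → a ≠ d → b ≠ c → b ≠ d → c ≠ d →
      w a d + w b d = w a c + w b c := by
    intro a b c d h1 h2' h3 h4 h5 h6
    have h := hZ' h1 h2' h3 h4 h5 h6
    rw [Z, add_assoc (w a c + w b c)] at h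
    exact (eq_of_add2 h2 h).symm
  have e3 := hcd (a := 0) (b := 1) (c := 2) (d := 3) (by decide) (by decide) (by decide) (by decide) (by decide) (by decide)
  have e4 := hcd (a := 0) (b := 1) (c := 2) (d := 4) (by decide) (by decide) (by decide) (by decide) (by decide) (by decide)
  have e5 := hcd (a := 0) (b := 1) (c := 2) (d := 5) (by decide) (by decide) (by decide) (by decide) (by decide) (by decide)
  have e6 := hcd (a := 0) (b := 1) (c := 2) (d := 6) (by decide) (by decide) (by decide) (by decide) (by decide) (by decide)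
  have hs : ∑ l, (w 0 l + w 1 l) = 0 := by rw [Finset.sum_add_distrib, hstar, hstar, add_zero]
  rw [Fin.sum_univ_seven, e3, e4, e5, e6, hw.diag, hw.diag, hw.comm 1 0] at hs
  have h12 : w 0 2 = w 1 2 := by
    apply eq_of_add2 h2
    rw [← hs]
    have : 0 + w 0 1 + (w 0 1 + 0) + (w 0 2 + w 1 2) + (w 0 2 + w 1 2) + (w 0 2 + w 1 2) + (w 0 2 + w 1 2) +
        (w 0 2 + w 1 2) = (w 0 1 + w 0 1) + ((w 0 2 + w 1 2) + (w 0 2 + w 1 2)) + ((w 0 2 + w 1 2) + (w 0 2 + w 1 2)) +
        (w 0 2 + w 1 2) := by abel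
    rw [this]
    simp only [hz, zero_add]
  have hrow : ∀ {a b c : Fin 7}, a ≠ b → a ≠ c → b ≠ c → w a c = w b c := by
    intro a b c hab hac hbc
    obtain ⟨g, g0, g1, g2⟩ := move3 (n := 7) (by norm_num) (a := 0) (b := 1) (c := 2) (by decide) (by decide)
      (by decide) hab hac hbc
    rw [← g0, ← g1, ← g2, ← hw.act, ← hw.act, h12]
  have hconst : ∀ {a b : Fin 7}, a ≠ b → w a b = w 0 1 := by
    intro a b hab
    by_cases hb : b = 0
    · subst hb
      by_cases ha : a = 1
      · subst ha; exact hw.comm _ _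
      · rw [hrow (a := a) (b := 1) (c := 0) ha hab (by decide), hw.comm]
    · by_cases ha : a = 0
      · subst ha
        by_cases hb1 : b = 1
        · rw [hb1]
        · rw [hw.comm 0 b, hrow (a := b) (b := 1) (c := 0) hb1 hab.symm (by decide), hw.comm]
      · rw [hrow (a := a) (b := 0) (c := b) ha hab (Ne.symm hb)]
        by_cases hb1 : b = 1
        · rw [hb1]
        · rw [hw.comm 0 b, hrow (a := b) (b := 1) (c := 0) hb1 hb (by decide), hw.comm]
  have hall := all7 (fam2_all hw hinv)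
  have h01 : w 0 1 = 0 := by
    simp only [hconst (show (0 : Fin 7) ≠ 2 by decide), hconst (show (0 : Fin 7) ≠ 3 by decide),
      hconst (show (0 : Fin 7) ≠ 4 by decide), hconst (show (0 : Fin 7) ≠ 5 by decide),
      hconst (show (0 : Fin 7) ≠ 6 by decide), hconst (show (1 : Fin 7) ≠ 2 by decide),
      hconst (show (1 : Fin 7) ≠ 3 by decide), hconst (show (1 : Fin 7) ≠ 4 by decide),
      hconst (show (1 : Fin 7) ≠ 5 by decide), hconst (show (1 : Fin 7) ≠ 6 by decide),
      hconst (show (2 : Fin 7) ≠ 3 by decide), hconst (show (2 : Fin 7) ≠ 4 by decide),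
      hconst (show (2 : Fin 7) ≠ 5 by decide), hconst (show (2 : Fin 7) ≠ 6 by decide),
      hconst (show (3 : Fin 7) ≠ 4 by decide), hconst (show (3 : Fin 7) ≠ 5 by decide),
      hconst (show (3 : Fin 7) ≠ 6 by decide), hconst (show (4 : Fin 7) ≠ 5 by decide),
      hconst (show (4 : Fin 7) ≠ 6 by decide), hconst (show (5 : Fin 7) ≠ 6 by decide), hz, zero_add] at hall
    exact hall
  by_cases hij : i = j
  · rw [hij, hw.diag]
  · rw [hconst hij, h01]

/-- the span of the `w i j` has dimension 14 -/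
theorem finrank14 (h2 : (2 : F) = 0) (hinv : σ.invariants = ⊥) {w : Fin 7 → Fin 7 → I27 → F} (hw : Fam2 σ w)
    (hstar : ∀ i, ∑ j, w i j = 0) (hZ : Z w 0 1 2 3 ≠ 0) :
    finrank F (Submodule.span F (Set.range fun p : Fin 7 × Fin 7 => w p.1 p.2)) = 14 := by
  have hli := indep h2 (by norm_num) good7 hw (z0 := 0) (z1 := 1) (z2 := 2) (z3 := 3) rfl rfl rfl rfl hZ
  have h1 := finrank_span_eq_card hli
  rw [card_BP7] at h1
  have h3 : Submodule.span F (Set.range fun p : Fin 7 × Fin 7 => w p.1 p.2) =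
      Submodule.span F (Set.range fun p : {p : Fin 7 × Fin 7 // BP p} => w p.1.1 p.1.2) := by
    apply le_antisymm
    · set S := Submodule.span F (Set.range fun p : {p : Fin 7 × Fin 7 // BP p} => w p.1.1 p.1.2) with hS
      have hB : ∀ i j : Fin 7, BP (i, j) → S.mkQ (w i j) = 0 := by
        intro i j hij
        rw [Submodule.mkQ_apply, Submodule.Quotient.mk_eq_zero]
        exact Submodule.subset_span ⟨⟨(i, j), hij⟩, rfl⟩
      have hst : ∀ i, ∑ j, S.mkQ (w i j) = 0 := by
        intro i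
        rw [← map_sum, hstar, map_zero]
      have hz : ∀ y : (I27 → F) ⧸ S, y + y = 0 := fun y => add_self2 h2 y
      have b13 := hB 1 3 (by decide)
      have b14 := hB 1 4 (by decide)
      have b15 := hB 1 5 (by decide)
      have b16 := hB 1 6 (by decide)
      have b23 := hB 2 3 (by decide)
      have b24 := hB 2 4 (by decide)
      have b25 := hB 2 5 (by decide)
      have b26 := hB 2 6 (by decide)
      have b34 := hB 3 4 (by decide)
      have b35 := hB 3 5 (by decide)
      have b36 := hB 3 6 (by decide)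
      have b45 := hB 4 5 (by decide)
      have b46 := hB 4 6 (by decide)
      have b56 := hB 5 6 (by decide)
      have s1 := hst 1
      have s2 := hst 2
      have s3 := hst 3
      have s4 := hst 4
      have s5 := hst 5
      have s6 := hst 6
      rw [Fin.sum_univ_seven, hw.diag, map_zero] at s1 s2 s3 s4 s5 s6
      rw [b13, b14, b15, b16, hw.comm 1 0] at s1
      rw [b23, b24, b25, b26, hw.comm 2 0, hw.comm 2 1] at s2
      rw [b34, b35, b36, hw.comm 3 0, hw.comm 3 1, hw.comm 3 2, b13, b23] at s3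
      rw [b45, b46, hw.comm 4 0, hw.comm 4 1, hw.comm 4 2, hw.comm 4 3, b14, b24, b34] at s4
      rw [b56, hw.comm 5 0, hw.comm 5 1, hw.comm 5 2, hw.comm 5 3, hw.comm 5 4, b15, b25, b35, b45] at s5
      rw [hw.comm 6 0, hw.comm 6 1, hw.comm 6 2, hw.comm 6 3, hw.comm 6 4, hw.comm 6 5, b16, b26, b36, b46, b56] at s6
      simp only [add_zero] at s1 s2 s3 s4 s5 s6
      have hall := congrArg S.mkQ (all7 (fam2_all hw hinv))
      simp only [map_add, map_zero, b13, b14, b15, b16, b23, b24, b25, b26, b34, b35, b36, b45, b46, b56, s3, s4, s5,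
        s6, add_zero] at hall
      have h12 : S.mkQ (w 1 2) = 0 := by
        have e1 := eq_of_add2 h2 s1
        have e2 := eq_of_add2 h2 s2
        rw [e1, e2, hz, zero_add] at hall
        exact hall
      rw [h12, add_zero] at s1 s2
      have key : ∀ i j : Fin 7, S.mkQ (w i j) = 0 := by
        have k1 : ∀ i j : Fin 7, i < j → S.mkQ (w i j) = 0 := by
          intro i j hij
          fin_cases i <;> fin_cases j <;> first | exact absurd hij (by decide) | assumption
        intro i j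
        rcases lt_trichotomy i j with h | h | h
        · exact k1 i j h
        · rw [h, hw.diag, map_zero]
        · rw [hw.comm]; exact k1 j i h
      rw [Submodule.span_le]
      rintro _ ⟨p, rfl⟩
      have := key p.1 p.2
      rw [Submodule.mkQ_apply, Submodule.Quotient.mk_eq_zero] at this
      exact this
    · apply Submodule.span_mono
      rintro _ ⟨p, rfl⟩
      exact ⟨p.1, rfl⟩
  rw [h3, h1]

/-- orthogonality -/
theorem tf_zero7 (h2 : (2 : F) = 0) (hP : PD σ σ') {w : Fin 7 → Fin 7 → I27 → F} (hw : Fam2 σ' w)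
    (hstar : ∀ i, ∑ j, w i j = 0) {u : Fin 7 → I27 → F} (hu : Fam σ u) (hus : ∑ i, u i = 0) (i j k : Fin 7) :
    tf (w i j) (u k) = 0 := by
  have act : ∀ (g : ↥(alternatingGroup (Fin 7))) (i j k : Fin 7),
      tf (w ((g : Perm (Fin 7)) i) ((g : Perm (Fin 7)) j)) (u ((g : Perm (Fin 7)) k)) = tf (w i j) (u k) := by
    intro g i j k
    rw [← hw.act, ← hu, hP.symm.htf]
  have hz : ∀ y : F, y + y = 0 := fun y => by rw [← two_mul, h2, zero_mul]
  have e1 : ∀ {a b c : Fin 7}, a ≠ b → a ≠ c → b ≠ c → tf (w a b) (u c) = tf (w 0 1) (u 2) := by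
    intro a b c hab hac hbc
    obtain ⟨g, g0, g1, g2⟩ := move3 (n := 7) (by norm_num) (a := 0) (b := 1) (c := 2) (by decide) (by decide)
      (by decide) hab hac hbc
    rw [← g0, ← g1, ← g2, act]
  have e2 : ∀ {a b : Fin 7}, a ≠ b → tf (w a b) (u a) = tf (w 0 1) (u 0) := by
    intro a b hab
    obtain ⟨g, g0, g1⟩ := move2 (n := 7) (by norm_num) (a := 0) (b := 1) (by decide) hab
    rw [← g0, ← g1, act]
  have e3 : ∀ {a b : Fin 7}, a ≠ b → tf (w a b) (u b) = tf (w 0 1) (u 0) := by
    intro a b hab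
    rw [hw.comm, e2 hab.symm]
  have s1 := star_tf hus (w 0 1)
  rw [Fin.sum_univ_seven, e3 (a := 0) (b := 1) (by decide), e1 (a := 0) (b := 1) (c := 3) (by decide) (by decide) (by decide),
    e1 (a := 0) (b := 1) (c := 4) (by decide) (by decide) (by decide),
    e1 (a := 0) (b := 1) (c := 5) (by decide) (by decide) (by decide),
    e1 (a := 0) (b := 1) (c := 6) (by decide) (by decide) (by decide)] at s1
  have h012 : tf (w 0 1) (u 2) = 0 := by
    have : tf (w 0 1) (u 0) + tf (w 0 1) (u 0) + tf (w 0 1) (u 2) + tf (w 0 1) (u 2) + tf (w 0 1) (u 2) +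
        tf (w 0 1) (u 2) + tf (w 0 1) (u 2) = (tf (w 0 1) (u 0) + tf (w 0 1) (u 0)) +
        (tf (w 0 1) (u 2) + tf (w 0 1) (u 2)) + (tf (w 0 1) (u 2) + tf (w 0 1) (u 2)) + tf (w 0 1) (u 2) := by ring
    rw [this] at s1
    simpa only [hz, zero_add] using s1
  have s2 := star_tf' (hstar 0) (u 1)
  rw [Fin.sum_univ_seven, hw.diag, tf_zero_left, e1 (a := 0) (b := 2) (c := 1) (by decide) (by decide) (by decide),
    e1 (a := 0) (b := 3) (c := 1) (by decide) (by decide) (by decide),
    e1 (a := 0) (b := 4) (c := 1) (by decide) (by decide) (by decide),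
    e1 (a := 0) (b := 5) (c := 1) (by decide) (by decide) (by decide),
    e1 (a := 0) (b := 6) (c := 1) (by decide) (by decide) (by decide), h012,
    e3 (a := 0) (b := 1) (by decide)] at s2
  have h010 : tf (w 0 1) (u 0) = 0 := by simpa using s2
  by_cases hij : i = j
  · rw [hij, hw.diag, tf_zero_left]
  by_cases hik : i = k
  · rw [← hik, e2 hij, h010]
  by_cases hjk : j = k
  · rw [← hjk, e3 hij, h010]
  rw [e1 hij hik hjk, h012]

/-- linear independence of the members of two families -/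
theorem indep_two (h2 : (2 : F) = 0) (hinv : σ.invariants = ⊥) {κ : Type*} [Fintype κ] {v : κ → Fin 7 → I27 → F}
    (hv : ∀ k, Fam σ (v k)) (hi : LinearIndependent F (fun k => v k 0)) :
    LinearIndependent F (fun p : κ × Fin 6 => v p.1 p.2.succ) := by
  rw [Fintype.linearIndependent_iff] at hi ⊢
  intro c hc p
  let c' : κ → Fin 7 → F := fun k => Fin.cons 0 (fun i => c (k, i))
  have h3 : ∑ k, ∑ i, c' k i • v k i = 0 := by
    rw [← hc, Fintype.sum_prod_type]
    apply Finset.sum_congr rfl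
    intro k _
    rw [Fin.sum_univ_succ]
    simp [c']
  have h4 := fam_rel h2 (by norm_num) hinv hv h3 (a := 0) (b := p.2.succ) (Fin.succ_ne_zero _).symm 0
  have h5 := hi _ h4 p.1
  simpa [c'] using h5

/-- the main lemma -/
theorem seven_main (h2 : (2 : F) = 0) (hP : PD σ σ') (hinv : σ.invariants = ⊥) (hinv' : σ'.invariants = ⊥)
    {v : Fin 2 → Fin 7 → I27 → F} (hv : ∀ k, Fam σ (v k)) (hi : LinearIndependent F (fun k => v k 0)) (i j : Fin 7) :
    cr (v 0 i) (v 0 j) = 0 := by
  obtain ⟨w, hwd⟩ : ∃ w : Fin 7 → Fin 7 → I27 → F, w = fun i j => cr (v 0 i) (v 0 j) := ⟨_, rfl⟩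
  have hw : Fam2 σ' w := by rw [hwd]; exact fam2_cr h2 hP (hv 0)
  have hs : ∀ k, ∑ i, v k i = 0 := fun k => fam_sum hinv (hv k)
  have hstar : ∀ i, ∑ j, w i j = 0 := fun i => by rw [hwd]; exact star_cr (hs 0) _
  have hwij : cr (v 0 i) (v 0 j) = w i j := by rw [hwd]
  rw [hwij]
  clear hwd hwij
  by_cases hZ : Z w 0 1 2 3 = 0
  · exact w_zero7 h2 hinv' hw hstar hZ i j
  exfalso
  set M := Submodule.span F (Set.range fun p : Fin 7 × Fin 7 => w p.1 p.2) with hM
  have h14 : finrank F M = 14 := finrank14 h2 hinv' hw hstar hZ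
  set U := Submodule.span F (Set.range fun p : Fin 2 × Fin 7 => v p.1 p.2) with hU
  have hMs : ∀ g, ∀ x ∈ M, σ' g x ∈ M :=
    span_stable fun g p => ⟨((g : Perm (Fin 7)) p.1, (g : Perm (Fin 7)) p.2), hw.act g p.1 p.2⟩
  have hUs : ∀ g, ∀ x ∈ U, σ g x ∈ U := span_stable fun g p => ⟨(p.1, (g : Perm (Fin 7)) p.2), hv p.1 g p.2⟩
  have hUR : U ≤ perp M := by
    rw [hU, Submodule.span_le]
    rintro _ ⟨p, rfl⟩
    rw [SetLike.mem_coe, hM, perp_span]
    intro q
    exact tf_zero7 h2 hP hw hstar (hv p.1) (hs p.1) q.1 q.2 p.2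
  have h12 : finrank F U = 12 := by
    have h3 := finrank_span_eq_card (indep_two h2 hinv hv hi)
    rw [Fintype.card_prod, Fintype.card_fin, Fintype.card_fin] at h3
    have h4 : U = Submodule.span F (Set.range fun p : Fin 2 × Fin 6 => v p.1 p.2.succ) := by
      apply le_antisymm
      · rw [hU, Submodule.span_le]
        rintro _ ⟨⟨k, i⟩, rfl⟩
        refine Fin.cases ?_ (fun i => ?_) i
        · have h5 := hs k
          rw [Fin.sum_univ_succ, add_eq_zero_iff_eq_neg] at h5
          change v k 0 ∈ _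
          rw [h5]
          exact Submodule.neg_mem _ (Submodule.sum_mem _ fun i _ => Submodule.subset_span ⟨(k, i), rfl⟩)
        · exact Submodule.subset_span ⟨(k, i), rfl⟩
      · rw [Submodule.span_le]
        rintro _ ⟨⟨k, i⟩, rfl⟩
        exact Submodule.subset_span ⟨(k, i.succ), rfl⟩
    rw [h4, h3]
  have h13 := finrank_perp M
  exact no_thirteen h2 hinv hUR hUs (fun g x hx => hP.perp_mem hMs g hx) (by omega)
    (Cop_span fun p => Cop_fam h2 (hv p.1) (hs p.1) p.2)

end

end Cfsg.Agent.H905.E6T
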